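import Mathlib

namespace Groth.Agent.H5.ES

open IsLocalRing

variable {A C B : Type*} [CommRing A] [CommRing C] [CommRing B] [Algebra A C] [Algebra A B]
  [IsLocalRing B]

/-- The prime of `C` cut out by a hom to a local ring. -/
abbrev qOf (g : C →ₐ[A] B) : Ideal C := (maximalIdeal B).comap g.toRingHom

instance (g : C →ₐ[A] B) : (qOf g).IsPrime := Ideal.comap_isPrime _ _

theorem isUnit_of_mem_primeCompl (g : C →ₐ[A] B) (y : (qOf g).primeCompl) : IsUnit (g y) := by
  have : y.1 ∉ qOf g := y.2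
  by_contra h
  exact this (by
    show g y.1 ∈ maximalIdeal B
    exact (IsLocalRing.mem_maximalIdeal _).2 h)

/-- The induced hom from the localization. -/
noncomputable def chi (g : C →ₐ[A] B) : Localization.AtPrime (qOf g) →ₐ[A] B :=
  IsLocalization.liftAlgHom (M := (qOf g).primeCompl) (f := g) (isUnit_of_mem_primeCompl g)

theorem chi_algebraMap (g : C →ₐ[A] B) (c : C) :
    chi g (algebraMap C (Localization.AtPrime (qOf g)) c) = g c := by
  simp [chi]

theorem mem_primeCompl_of_isUnit (g : C →ₐ[A] B) {s : C} (hs : IsUnit (g s)) :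
    s ∈ (qOf g).primeCompl := by
  show s ∉ qOf g
  intro h
  exact ((IsLocalRing.mem_maximalIdeal _).1 (show g s ∈ maximalIdeal B from h)) hs

theorem chi_surjective (g : C →ₐ[A] B)
    (hg : ∀ b : B, ∃ c s : C, IsUnit (g s) ∧ b * g s = g c) :
    Function.Surjective (chi g) := by
  intro b
  obtain ⟨c, s, hs, hb⟩ := hg b
  refine ⟨IsLocalization.mk' (Localization.AtPrime (qOf g)) c
    (⟨s, mem_primeCompl_of_isUnit g hs⟩ : (qOf g).primeCompl), ?_⟩
  have h1 : chi g (IsLocalization.mk' (Localization.AtPrime (qOf g)) c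
    (⟨s, mem_primeCompl_of_isUnit g hs⟩ : (qOf g).primeCompl)) * g s = g c := by
    rw [← chi_algebraMap g s, ← map_mul, ← chi_algebraMap g c]
    congr 1
    exact IsLocalization.mk'_spec _ c (⟨s, mem_primeCompl_of_isUnit g hs⟩ : (qOf g).primeCompl)
  exact hs.mul_left_injective (by show _ * g s = b * g s; rw [h1, hb])

theorem chi_injective (g : C →ₐ[A] B)
    (hg : ∀ c : C, g c = 0 → ∃ s : C, IsUnit (g s) ∧ s * c = 0) :
    Function.Injective (chi g) := by
  rw [injective_iff_map_eq_zero]
  intro x hx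
  obtain ⟨c, s, rfl⟩ := IsLocalization.exists_mk'_eq (qOf g).primeCompl x
  have h1 : chi g (IsLocalization.mk' (Localization.AtPrime (qOf g)) c s) * g s = g c := by
    rw [← chi_algebraMap g s, ← map_mul, ← chi_algebraMap g c]
    congr 1
    exact IsLocalization.mk'_spec _ c s
  rw [hx, zero_mul] at h1
  obtain ⟨t, ht, htc⟩ := hg c h1.symm
  rw [IsLocalization.mk'_eq_zero_iff]
  exact ⟨⟨t, mem_primeCompl_of_isUnit g ht⟩, htc⟩

end Groth.Agent.H5.ES
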