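import Mathlib
import Groth.Agent.Lib.Helper5.ES.A

namespace Groth.Agent.H5.ES

open IsLocalRing

variable {A B₀ B : Type*} [CommRing A] [CommRing B₀] [CommRing B] [Algebra A B₀] [Algebra B₀ B]
  [Algebra A B] [IsScalarTower A B₀ B] [IsLocalRing B]

/-- The prime of `B₀` under the maximal ideal of `B`. -/
abbrev q₀ (B₀ B : Type*) [CommRing B₀] [CommRing B] [Algebra B₀ B] [IsLocalRing B] : Ideal B₀ :=
  (maximalIdeal B).comap (algebraMap B₀ B)

instance : (q₀ B₀ B).IsPrime := Ideal.comap_isPrime _ _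

theorem submonoid_eq_primeCompl (M : Submonoid B₀)
    (hM : M = (IsUnit.submonoid B).comap (algebraMap B₀ B)) : M = (q₀ B₀ B).primeCompl := by
  subst hM
  ext s
  rw [Submonoid.mem_comap, IsUnit.mem_submonoid_iff]
  show _ ↔ s ∉ q₀ B₀ B
  rw [Ideal.mem_comap, IsLocalRing.mem_maximalIdeal, mem_nonunits_iff, not_not]

theorem isLocalization_atPrime (M : Submonoid B₀) [IsLocalization M B]
    (hM : M = (IsUnit.submonoid B).comap (algebraMap B₀ B)) :
    IsLocalization.AtPrime B (q₀ B₀ B) := by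
  have := submonoid_eq_primeCompl M hM
  subst this
  infer_instance

/-- `B` is the localization of `B₀` at `q₀`. -/
noncomputable def locEquiv (M : Submonoid B₀) [IsLocalization M B]
    (hM : M = (IsUnit.submonoid B).comap (algebraMap B₀ B)) :
    Localization.AtPrime (q₀ B₀ B) ≃ₐ[A] B :=
  haveI := isLocalization_atPrime M hM
  (IsLocalization.algEquiv (q₀ B₀ B).primeCompl (Localization.AtPrime (q₀ B₀ B)) B).restrictScalars A

theorem isUnit_algebraMap_of_notMem {f : B₀} (hf : f ∉ q₀ B₀ B) : IsUnit (algebraMap B₀ B f) := by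
  by_contra h
  exact hf ((IsLocalRing.mem_maximalIdeal _).2 h)

/-- The canonical map `(B₀)_f → B` for `f ∉ q₀`. -/
noncomputable def psi {f : B₀} (hf : f ∉ q₀ B₀ B) : Localization.Away f →ₐ[A] B :=
  IsLocalization.liftAlgHom (M := Submonoid.powers f) (f := IsScalarTower.toAlgHom A B₀ B) (by
    rintro ⟨_, n, rfl⟩
    simp only [IsScalarTower.coe_toAlgHom', map_pow]
    exact (isUnit_algebraMap_of_notMem hf).pow n)

theorem psi_algebraMap {f : B₀} (hf : f ∉ q₀ B₀ B) (x : B₀) :
    psi (A := A) hf (algebraMap B₀ (Localization.Away f) x) = algebraMap B₀ B x := by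
  simp [psi]

/-- Surjection case: `C ↠ (B₀)_f` gives `C_𝔮 ↠ B`. -/
theorem hg_surj (M : Submonoid B₀) [IsLocalization M B]
    (hM : M = (IsUnit.submonoid B).comap (algebraMap B₀ B))
    {C : Type*} [CommRing C] [Algebra A C] {f : B₀} (hf : f ∉ q₀ B₀ B)
    (φ : C →ₐ[A] Localization.Away f) (hφ : Function.Surjective φ) :
    ∀ b : B, ∃ c s : C, IsUnit (((psi (A := A) hf).comp φ) s) ∧
      b * ((psi (A := A) hf).comp φ) s = ((psi (A := A) hf).comp φ) c := by
  intro b
  obtain ⟨x, s, rfl⟩ := IsLocalization.exists_mk'_eq M b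
  obtain ⟨c, hc⟩ := hφ (algebraMap _ _ x)
  obtain ⟨t, ht⟩ := hφ (algebraMap _ _ s.1)
  refine ⟨c, t, ?_, ?_⟩
  · rw [AlgHom.comp_apply, ht, psi_algebraMap]
    exact IsLocalization.map_units B s
  · rw [AlgHom.comp_apply, AlgHom.comp_apply, ht, hc, psi_algebraMap, psi_algebraMap]
    exact IsLocalization.mk'_spec B x s

/-- Bijective case. -/
theorem hg_inj (M : Submonoid B₀) [IsLocalization M B]
    (hM : M = (IsUnit.submonoid B).comap (algebraMap B₀ B))
    {C : Type*} [CommRing C] [Algebra A C] {f : B₀} (hf : f ∉ q₀ B₀ B)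
    (e : C ≃ₐ[A] Localization.Away f) :
    ∀ c : C, ((psi (A := A) hf).comp e.toAlgHom) c = 0 →
      ∃ s : C, IsUnit (((psi (A := A) hf).comp e.toAlgHom) s) ∧ s * c = 0 := by
  intro c hc
  obtain ⟨x, ⟨_, n, rfl⟩, hx⟩ := IsLocalization.exists_mk'_eq (Submonoid.powers f) (e c)
  have h1 : e c * algebraMap B₀ (Localization.Away f) (f ^ n) = algebraMap _ _ x := by
    rw [← hx]
    exact IsLocalization.mk'_spec _ x _
  have h2 : algebraMap B₀ B x = 0 := by
    rw [← psi_algebraMap (A := A) hf x, ← h1, map_mul]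
    have : psi (A := A) hf (e c) = 0 := hc
    rw [this, zero_mul]
  obtain ⟨s, hs⟩ := (IsLocalization.map_eq_zero_iff M B x).1 h2
  refine ⟨e.symm (algebraMap _ _ s.1), ?_, ?_⟩
  · rw [AlgHom.comp_apply]
    show IsUnit (psi (A := A) hf (e (e.symm _)))
    rw [AlgEquiv.apply_symm_apply, psi_algebraMap]
    exact IsLocalization.map_units B s
  · apply e.injective
    rw [map_mul, AlgEquiv.apply_symm_apply, map_zero]
    have hu : IsUnit (algebraMap B₀ (Localization.Away f) (f ^ n)) :=
      IsLocalization.map_units (Localization.Away f) (⟨f ^ n, n, rfl⟩ : Submonoid.powers f)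
    apply hu.mul_left_injective
    show _ * _ = 0 * _
    rw [zero_mul, mul_assoc, h1, ← map_mul, hs, map_zero]

end Groth.Agent.H5.ES
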