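import Mathlib
import Groth.Agent.Lib.Helper5.ES.B

namespace Groth.Agent.H5.ES

open IsLocalRing TensorProduct

universe u

theorem unramified_local (A B : Type u) [CommRing A] [CommRing B]
    [IsLocalRing A] [IsLocalRing B] [Algebra A B]
    [IsLocalHom (algebraMap A B)] [Algebra.EssFiniteType A B]
    (hm : (IsLocalRing.maximalIdeal A).map (algebraMap A B) = IsLocalRing.maximalIdeal B)
    [Algebra.IsSeparable (IsLocalRing.ResidueField A) (IsLocalRing.ResidueField B)] :
    ∃ (P : StandardEtalePair A) (𝔮 : Ideal P.Ring) (_ : 𝔮.IsPrime)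
      (I : Ideal (Localization.AtPrime 𝔮)),
      Nonempty (B ≃ₐ[A] (Localization.AtPrime 𝔮 ⧸ I)) := by
  have hU : Algebra.FormallyUnramified A B := Algebra.FormallyUnramified.of_map_maximalIdeal hm
  let B₀ := Algebra.EssFiniteType.subalgebra A B
  let M := Algebra.EssFiniteType.submonoid A B
  have hM : M = (IsUnit.submonoid B).comap (algebraMap B₀ B) := rfl
  have hUq : Algebra.IsUnramifiedAt A (q₀ B₀ B) :=
    Algebra.FormallyUnramified.of_equiv (locEquiv (A := A) M hM).symm
  obtain ⟨f, hf, P, φ, hφ⟩ := Algebra.IsUnramifiedAt.exists_hasStandardEtaleSurjectionOn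
    (R := A) (q₀ B₀ B)
  have hsurj := chi_surjective _ (hg_surj (A := A) M hM hf φ hφ)
  exact ⟨P, qOf ((psi (A := A) hf).comp φ), inferInstance, RingHom.ker (chi _),
    ⟨(Ideal.quotientKerAlgEquivOfSurjective hsurj).symm⟩⟩

theorem etale_local (A B : Type u) [CommRing A] [CommRing B]
    [IsLocalRing A] [IsLocalRing B] [IsNoetherianRing A] [Algebra A B]
    [IsLocalHom (algebraMap A B)] [Algebra.EssFiniteType A B] [Module.Flat A B]
    (hm : (IsLocalRing.maximalIdeal A).map (algebraMap A B) = IsLocalRing.maximalIdeal B)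
    [Algebra.IsSeparable (IsLocalRing.ResidueField A) (IsLocalRing.ResidueField B)] :
    ∃ (P : StandardEtalePair A) (𝔮 : Ideal P.Ring) (_ : 𝔮.IsPrime),
      Nonempty (B ≃ₐ[A] Localization.AtPrime 𝔮) := by
  have hU : Algebra.FormallyUnramified A B := Algebra.FormallyUnramified.of_map_maximalIdeal hm
  let B₀ := Algebra.EssFiniteType.subalgebra A B
  let M := Algebra.EssFiniteType.submonoid A B
  have hM : M = (IsUnit.submonoid B).comap (algebraMap B₀ B) := rfl
  have hFP : Algebra.FinitePresentation A B₀ := Algebra.FinitePresentation.of_finiteType.mp inferInstance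
  have hS0 : Algebra.FormallySmooth (ResidueField A) (ResidueField A ⊗[A] B) :=
    have := Algebra.FormallyEtale.of_formallyUnramified_of_field (ResidueField A)
      (ResidueField A ⊗[A] B)
    inferInstance
  have hS : Algebra.FormallySmooth A B :=
    Algebra.FormallySmooth.of_formallySmooth_residueField_tensor (R := A) (S := B) (P := B₀) M
  have hE : Algebra.FormallyEtale A B :=
    Algebra.FormallyEtale.iff_formallyUnramified_and_formallySmooth.mpr ⟨hU, hS⟩
  have hEq : Algebra.IsEtaleAt A (q₀ B₀ B) :=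
    Algebra.FormallyEtale.of_equiv (locEquiv (A := A) M hM).symm
  obtain ⟨f, hf, hstd⟩ := Algebra.IsEtaleAt.exists_isStandardEtale (R := A) (q₀ B₀ B)
  let Pr : StandardEtalePresentation A (Localization.Away f) :=
    hstd.nonempty_standardEtalePresentation.some
  let e : Pr.P.Ring ≃ₐ[A] Localization.Away f := Pr.equivRing.symm
  have hsurj := chi_surjective _ (hg_surj (A := A) M hM hf e.toAlgHom e.surjective)
  have hinj := chi_injective _ (hg_inj (A := A) M hM hf e)
  exact ⟨Pr.P, qOf ((psi (A := A) hf).comp e.toAlgHom), inferInstance,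
    ⟨(AlgEquiv.ofBijective _ ⟨hinj, hsurj⟩).symm⟩⟩

end Groth.Agent.H5.ES
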