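import Mathlib
import Groth.Agent.Lib.Helper5.ES.C
import Groth.Agent.Lib.Helper1.Miracle

namespace Groth.Agent.H5.ES

open IsLocalRing TensorProduct

universe u

/-- flat + unramified local hom (ess. of finite type, Noetherian base) is formally étale. -/
theorem formallyEtale_of_flat_local (A B : Type u) [CommRing A] [CommRing B]
    [IsLocalRing A] [IsLocalRing B] [IsNoetherianRing A] [Algebra A B]
    [IsLocalHom (algebraMap A B)] [Algebra.EssFiniteType A B] [Module.Flat A B]
    [Algebra.FormallyUnramified A B] :
    Algebra.FormallyEtale A B := by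
  let B₀ := Algebra.EssFiniteType.subalgebra A B
  let M := Algebra.EssFiniteType.submonoid A B
  have hFP : Algebra.FinitePresentation A B₀ :=
    Algebra.FinitePresentation.of_finiteType.mp inferInstance
  have hS0 : Algebra.FormallySmooth (ResidueField A) (ResidueField A ⊗[A] B) :=
    have := Algebra.FormallyEtale.of_formallyUnramified_of_field (ResidueField A)
      (ResidueField A ⊗[A] B)
    inferInstance
  have hS : Algebra.FormallySmooth A B :=
    Algebra.FormallySmooth.of_formallySmooth_residueField_tensor (R := A) (S := B) (P := B₀) M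
  exact Algebra.FormallyEtale.iff_formallyUnramified_and_formallySmooth.mpr ⟨inferInstance, hS⟩

/-- S7771: unramified + equal dimension + regular base + CM top ⇒ étale. -/
theorem isEtaleAt_of_regular_cm (A B : Type u) [CommRing A] [CommRing B]
    [Algebra A B] [IsNoetherianRing A] [IsNoetherianRing B] [Algebra.FiniteType A B]
    (q : Ideal B) [q.IsPrime]
    (hdim : ringKrullDim (Localization.AtPrime (q.under A)) = ringKrullDim (Localization.AtPrime q))
    [IsRegularLocalRing (Localization.AtPrime (q.under A))]
    [LocCoh.IsCohenMacaulayLocalRing (Localization.AtPrime q)]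
    [Algebra.IsUnramifiedAt A q] : Algebra.IsEtaleAt A q := by
  let p := q.under A
  let Ap := Localization.AtPrime p
  let Bq := Localization.AtPrime q
  letI : Algebra Ap Bq := Localization.AtPrime.algebraOfLiesOver p q
  haveI : IsScalarTower A Ap Bq := inferInstance
  haveI : IsLocalHom (algebraMap Ap Bq) := by
    show IsLocalHom (Localization.localRingHom p q (algebraMap A B) Ideal.LiesOver.over)
    infer_instance
  haveI : Algebra.EssFiniteType A Bq := Algebra.EssFiniteType.comp A B Bq
  haveI : Algebra.EssFiniteType Ap Bq := Algebra.EssFiniteType.of_comp A Ap Bq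
  haveI : Algebra.FormallyUnramified A Bq := ‹Algebra.IsUnramifiedAt A q›
  haveI : Algebra.FormallyUnramified Ap Bq := Algebra.FormallyUnramified.of_restrictScalars A Ap Bq
  have hm : (maximalIdeal Ap).map (algebraMap Ap Bq) = maximalIdeal Bq :=
    Algebra.FormallyUnramified.map_maximalIdeal
  -- flatness by miracle flatness
  haveI : Module.Flat Ap Bq := by
    apply Groth.Agent.H1.Miracle.flat_of_cm (A := Ap) (B := Bq) Bq
    · exact LocCoh.IsCohenMacaulayLocalRing.supportDim_eq_depth
    · rw [hm, Module.supportDim_self_eq_ringKrullDim]
      have h1 : (maximalIdeal Bq • ⊤ : Submodule Bq Bq) = maximalIdeal Bq := by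
        rw [smul_eq_mul, Ideal.mul_top]
      rw [h1, Module.supportDim_quotient_eq_ringKrullDim]
      have h2 : ringKrullDim (Bq ⧸ maximalIdeal Bq) = 0 := by
        letI := Ideal.Quotient.field (maximalIdeal Bq)
        exact ringKrullDim_eq_zero_of_field _
      rw [h2, add_zero]
      exact hdim.symm
  haveI : Algebra.FormallyEtale Ap Bq := formallyEtale_of_flat_local Ap Bq
  haveI : Algebra.FormallyEtale A Ap := Algebra.FormallyEtale.of_isLocalization p.primeCompl
  exact Algebra.FormallyEtale.comp A Ap Bq

end Groth.Agent.H5.ES
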